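import Mathlib

/-!
Two-by-two matrices with a fixed irreducible characteristic polynomial `X² - t X + d`:
every element of determinant one of trace different from `2` (and the identity) is a product of a
conjugate of the inverse and a conjugate of such a matrix.
-/

set_option autoImplicit false

open Matrix

namespace Cfsg.Lib.SpFourCover

variable {F : Type*} [Field F]

/-- `t`, `d` are trace and determinant of an elliptic element of `GL(2,F)` that fixes no nonzero
symmetric form and whose trace is nonzero. -/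
structure EllipticPair (t d : F) : Prop where
  noRoot : ∀ r : F, r * r - t * r + d ≠ 0
  ht : t ≠ 0
  hd1 : d ≠ 1

lemma EllipticPair.hd0 {t d : F} (h : EllipticPair t d) : d ≠ 0 := fun h0 =>
  h.noRoot 0 (by rw [h0]; ring)

theorem exists_ellipticPair [Fintype F] (h3 : 3 ≤ Fintype.card F) : ∃ t d : F, EllipticPair t d := by
  classical
  have hz : ∃ z : F, z ≠ 0 ∧ -(z * z) ≠ 1 := by
    by_cases h2 : (2 : F) = 0
    · obtain ⟨z, hz0, hz1⟩ : ∃ z : F, z ≠ 0 ∧ z ≠ 1 := by
        by_contra hcon
        push Not at hcon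
        have hsub : (Finset.univ : Finset F) ⊆ {0, 1} := by
          intro z _
          by_cases hz : z = 0
          · simp [hz]
          · simp [hcon z hz]
        have := Finset.card_le_card hsub
        have h2' : ({0, 1} : Finset F).card ≤ 2 := Finset.card_le_two
        rw [Finset.card_univ] at this
        omega
      refine ⟨z, hz0, fun hz => hz1 ?_⟩
      have : (z - 1) * (z - 1) = 0 := by linear_combination (-1 : F) * hz + (-z) * h2
      simpa [sub_eq_zero] using this
    · exact ⟨1, one_ne_zero, fun h => h2 (by linear_combination (-1 : F) * h)⟩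
  obtain ⟨z, hz0, hz1⟩ := hz
  let f : {r : F // r ≠ 0} → F := fun r => r.1 + -(z * z) / r.1
  have hns : ¬ Function.Surjective f := by
    intro hsur
    have h1 := Fintype.card_le_of_surjective f hsur
    have h2 : Fintype.card {r : F // r ≠ 0} < Fintype.card F :=
      Fintype.card_subtype_lt (x := 0) (by simp)
    omega
  obtain ⟨t, ht⟩ : ∃ t, ∀ r, f r ≠ t := by
    by_contra hcon
    push Not at hcon
    exact hns hcon
  refine ⟨t, -(z * z), ⟨fun r hr => ?_, fun h0 => ?_, hz1⟩⟩
  · by_cases hr0 : r = 0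
    · subst hr0
      exact hz0 (by simpa using hr)
    · refine ht ⟨r, hr0⟩ ?_
      show r + -(z * z) / r = t
      field_simp
      linear_combination hr
  · refine ht ⟨z, hz0⟩ ?_
    show z + -(z * z) / z = t
    rw [h0]
    field_simp
    ring

/-- The companion matrix. -/
def comp2 (t d : F) : Matrix (Fin 2) (Fin 2) F := !![0, -d; 1, t]

@[simp] lemma comp2_trace (t d : F) : (comp2 t d).trace = t := by
  simp [comp2, Matrix.trace_fin_two]

@[simp] lemma comp2_det (t d : F) : (comp2 t d).det = d := by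
  simp [comp2, Matrix.det_fin_two]

/-- A matrix with a cyclic first basis vector is conjugate to its companion matrix. -/
lemma conj_comp2 (y : Matrix (Fin 2) (Fin 2) F) (h : y 1 0 ≠ 0) :
    ∃ C : Matrix (Fin 2) (Fin 2) F, C.det ≠ 0 ∧ y * C = C * comp2 y.trace y.det := by
  refine ⟨!![1, y 0 0; 0, y 1 0], by simpa [Matrix.det_fin_two] using h, ?_⟩
  ext i j
  fin_cases i <;> fin_cases j <;>
    simp [comp2, Matrix.mul_apply, Fin.sum_univ_two, Matrix.trace_fin_two, Matrix.det_fin_two] <;> ring

lemma ne_zero_of_elliptic {t d : F} (h : EllipticPair t d) {y : Matrix (Fin 2) (Fin 2) F}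
    (ht : y.trace = t) (hd : y.det = d) : y 1 0 ≠ 0 := by
  intro h0
  apply h.noRoot (y 0 0)
  rw [← ht, ← hd, Matrix.trace_fin_two, Matrix.det_fin_two, h0]
  ring

/-- Any non-scalar matrix is conjugate to its companion matrix. -/
lemma conj_comp2_of_nonscalar (g : Matrix (Fin 2) (Fin 2) F) (h : ∀ c : F, g ≠ c • 1) :
    ∃ C : Matrix (Fin 2) (Fin 2) F, C.det ≠ 0 ∧ g * C = C * comp2 g.trace g.det := by
  by_cases h10 : g 1 0 = 0
  · by_cases h01 : g 0 1 = 0
    · have hne : g 0 0 ≠ g 1 1 := by
        intro he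
        apply h (g 0 0)
        ext i j
        fin_cases i <;> fin_cases j <;> simp [h10, h01, he]
      refine ⟨!![1, g 0 0; 1, g 1 1], ?_, ?_⟩
      · simpa [Matrix.det_fin_two, sub_eq_zero] using Ne.symm hne
      · ext i j
        fin_cases i <;> fin_cases j <;>
          simp [comp2, Matrix.mul_apply, Fin.sum_univ_two, Matrix.trace_fin_two, Matrix.det_fin_two,
            h10, h01] <;> ring
    · refine ⟨!![0, g 0 1; 1, g 1 1], by simpa [Matrix.det_fin_two] using h01, ?_⟩
      ext i j
      fin_cases i <;> fin_cases j <;>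
        simp [comp2, Matrix.mul_apply, Fin.sum_univ_two, Matrix.trace_fin_two, Matrix.det_fin_two, h10]
          <;> ring
  · exact conj_comp2 g h10

/-- Good elements: products of a conjugate of `A⁻¹` and a conjugate of `A`. -/
theorem exists_factor [Fintype F] {t d : F} (h : EllipticPair t d) (g : Matrix (Fin 2) (Fin 2) F)
    (hg : g.det = 1) (hs : g = 1 ∨ g.trace ≠ 2 ∧ g ≠ -1) :
    ∃ y : Matrix (Fin 2) (Fin 2) F, y.trace = t ∧ y.det = d ∧ (y * g).trace = t ∧ (y * g).det = d := by
  rcases hs with rfl | ⟨hs, hneg⟩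
  · exact ⟨comp2 t d, by simp, by simp, by simp, by simp⟩
  suffices hy : ∃ y : Matrix (Fin 2) (Fin 2) F, y.trace = t ∧ y.det = d ∧ (y * g).trace = t by
    obtain ⟨y, h1, h2, h3⟩ := hy
    exact ⟨y, h1, h2, h3, by rw [Matrix.det_mul, h2, hg, mul_one]⟩
  by_cases hscal : ∀ c : F, g ≠ c • 1
  swap
  · push Not at hscal
    obtain ⟨c, rfl⟩ := hscal
    rcases mul_self_eq_one_iff.1 (by simpa [Matrix.det_smul, sq] using hg : c * c = 1) with rfl | rfl
    · exact ⟨comp2 t d, by simp, by simp, by simp⟩
    · exact absurd (by simp) hneg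
  obtain ⟨C, hC, hgC⟩ := conj_comp2_of_nonscalar g hscal
  rw [hg] at hgC
  set s := g.trace with hs'
  -- solve in the companion basis
  suffices hy : ∃ x w : F, x * (t - x) - (w + t - (t - x) * s) * w = d by
    obtain ⟨x, w, hxw⟩ := hy
    let y0 : Matrix (Fin 2) (Fin 2) F := !![x, w + t - (t - x) * s; w, t - x]
    have hu : IsUnit C.det := isUnit_iff_ne_zero.2 hC
    have hg0 : g = C * comp2 s 1 * C⁻¹ := by
      rw [← hgC, mul_assoc, Matrix.mul_nonsing_inv _ hu, mul_one]
    have htr : ∀ M : Matrix (Fin 2) (Fin 2) F, (C * M * C⁻¹).trace = M.trace := fun M => by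
      rw [Matrix.trace_mul_cycle, Matrix.nonsing_inv_mul _ hu, one_mul]
    refine ⟨C * y0 * C⁻¹, ?_, ?_, ?_⟩
    · rw [htr]; simp [y0, Matrix.trace_fin_two]
    · rw [Matrix.det_mul, Matrix.det_mul, Matrix.det_nonsing_inv, Ring.inverse_eq_inv']
      field_simp
      simp [y0, Matrix.det_fin_two, hxw]
    · have he : C * y0 * C⁻¹ * g = C * (y0 * comp2 s 1) * C⁻¹ := by
        rw [hg0]
        simp [mul_assoc, Matrix.nonsing_inv_mul_cancel_left _ _ hu]
      rw [he, htr]
      simp [y0, comp2, Matrix.trace_fin_two]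
  by_cases h2 : (2 : F) = 0
  · have hs0 : s ≠ 0 := fun h0 => hs (by rw [h0, h2])
    have : CharP F 2 := CharTwo.of_one_ne_zero_of_two_eq_zero one_ne_zero h2
    obtain ⟨x, hx⟩ : IsSquare ((t / s) * (t / s) + (t / s) * t * (1 - s) + d) :=
      FiniteField.isSquare_of_char_two (ringChar.eq F 2) _
    refine ⟨x, t / s, ?_⟩
    have hts : s * (t / s) = t := by field_simp
    linear_combination hx - x * hts + (- d - (t / s) * t * (1 - s) - (t / s) * (t / s)) * h2
  · by_cases hs2 : s = -2
    · refine ⟨-d / (2 * t), -d / (2 * t), ?_⟩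
      have := h.ht
      rw [hs2]
      field_simp
      ring
    · have he : 1 - s * s / 4 ≠ 0 := by
        intro he
        have h4 : (4 : F) ≠ 0 := by
          intro h4
          exact h2 (mul_self_eq_zero.1 (by linear_combination h4))
        field_simp at he
        have : (2 - s) * (2 + s) = 0 := by linear_combination he
        rcases mul_eq_zero.1 this with h' | h'
        · exact hs (by linear_combination -h')
        · exact hs2 (by linear_combination h')
      open Polynomial in
      obtain ⟨a, b, hab⟩ := FiniteField.exists_root_sum_quadratic (R := F)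
        (f := X ^ 2)
        (g := Polynomial.C (1 - s * s / 4) * X ^ 2 + Polynomial.C (t * (1 - s) + s * t / 2) * X +
          Polynomial.C (d - t * t / 4))
        (degree_X_pow 2) (degree_quadratic he)
        (FiniteField.odd_card_of_char_ne_two (fun hc => h2 (by
          have := ringChar.of_eq hc
          exact CharTwo.two_eq_zero)))
      refine ⟨a - (s * b - t) / 2, b, ?_⟩
      simp at hab
      have h4 : (4 : F) = 2 * 2 := by norm_num
      rw [h4] at hab
      field_simp at hab ⊢
      linear_combination -hab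

/-- An elliptic element fixes no nonzero symmetric form. -/
theorem sym_fix_eq_zero {t d : F} (h : EllipticPair t d) {y Z : Matrix (Fin 2) (Fin 2) F}
    (ht : y.trace = t) (hd : y.det = d) (hZ : Zᵀ = Z) (hfix : yᵀ * Z * y = Z) : Z = 0 := by
  obtain ⟨C, hC, hyC⟩ := conj_comp2 y (ne_zero_of_elliptic h ht hd)
  rw [ht, hd] at hyC
  have hu : IsUnit C.det := isUnit_iff_ne_zero.2 hC
  suffices hW : Cᵀ * Z * C = 0 by
    have h1 : (Cᵀ)⁻¹ * (Cᵀ * Z * C) * C⁻¹ = Z := by
      have huT : IsUnit (Cᵀ).det := by rwa [Matrix.det_transpose]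
      rw [mul_assoc Cᵀ Z C, Matrix.nonsing_inv_mul_cancel_left _ _ huT, mul_assoc,
        Matrix.mul_nonsing_inv _ hu, mul_one]
    rw [← h1, hW, mul_zero, zero_mul]
  have hWs : (Cᵀ * Z * C)ᵀ = Cᵀ * Z * C := by simp [Matrix.transpose_mul, hZ, mul_assoc]
  have hWf : (comp2 t d)ᵀ * (Cᵀ * Z * C) * comp2 t d = Cᵀ * Z * C := by
    calc _ = (C * comp2 t d)ᵀ * Z * (C * comp2 t d) := by simp [Matrix.transpose_mul, mul_assoc]
      _ = Cᵀ * (yᵀ * Z * y) * C := by rw [← hyC]; simp [Matrix.transpose_mul, mul_assoc]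
      _ = _ := by rw [hfix]
  set W := Cᵀ * Z * C
  have h01 : W 1 0 = W 0 1 := congrFun (congrFun hWs 0) 1
  have e00 : (((comp2 t d)ᵀ * W * comp2 t d)) 0 0 = W 0 0 := congrFun (congrFun hWf 0) 0
  have e01 : (((comp2 t d)ᵀ * W * comp2 t d)) 0 1 = W 0 1 := congrFun (congrFun hWf 0) 1
  have e11 : (((comp2 t d)ᵀ * W * comp2 t d)) 1 1 = W 1 1 := congrFun (congrFun hWf 1) 1
  simp [comp2, Matrix.mul_apply, Fin.sum_univ_two, h01] at e00 e01 e11
  have key : (1 + d) * W 0 1 = t * W 0 0 := by linear_combination -e01 + t * e00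
  have hplus : 1 + t + d ≠ 0 := fun h0 => h.noRoot (-1) (by linear_combination h0)
  have hminus : 1 - t + d ≠ 0 := fun h0 => h.noRoot 1 (by linear_combination h0)
  have hd1 : d - 1 ≠ 0 := sub_ne_zero.2 h.hd1
  have ha : W 0 0 = 0 := by
    have : (d - 1) * (1 + t + d) * (1 - t + d) * W 0 0 = 0 := by
      linear_combination (1 + d) * e11 + (2 * d * t) * key + ((1 + d) - t ^ 2 * (1 + d)) * e00
    simpa [hd1, hplus, hminus] using this
  have hb : W 0 1 = 0 := by
    by_cases hd' : 1 + d = 0
    · have h2 : (2 : F) ≠ 0 := fun h2 => hd1 (by linear_combination hd' - h2)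
      have hc : W 1 1 = 0 := e00.trans ha
      have : 2 * t * W 0 1 = 0 := by
        rw [ha, hc] at e11
        have hd'' : d = -1 := by linear_combination hd'
        rw [hd''] at e11
        linear_combination e11
      simpa [h2, h.ht] using this
    · simpa [ha, hd'] using key
  ext i j
  fin_cases i <;> fin_cases j <;> simp [ha, hb, h01, e00.trans ha]

end Cfsg.Lib.SpFourCover
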