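import Cfsg.Agent.Known.SpFourCover.Two

/-!
Every non-central element of `Sp(4,F)` is conjugate to one whose upper left block has determinant one
and is "good"; such an element is a product of two conjugates of a fixed elliptic Levi element.
-/

set_option autoImplicit false

open Matrix

namespace Cfsg.Lib.SpFourCover

variable {F : Type*} [Field F]

/-- `Sp(4,F)`. -/
abbrev SpF (F : Type*) [Field F] := ↥(Matrix.symplecticGroup (Fin 2) F)

local notation "M2" => Matrix (Fin 2) (Fin 2) F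

lemma mem_iff_blocks (P Q R S : M2) :
    fromBlocks P Q R S ∈ Matrix.symplecticGroup (Fin 2) F ↔
      Q * Pᵀ = P * Qᵀ ∧ Q * Rᵀ - P * Sᵀ = -1 ∧ S * Pᵀ - R * Qᵀ = 1 ∧ S * Rᵀ = R * Sᵀ := by
  rw [SymplecticGroup.mem_iff, Matrix.J, fromBlocks_transpose, fromBlocks_multiply, fromBlocks_multiply,
    fromBlocks_inj]
  simp only [mul_zero, zero_add, mul_one, add_zero, mul_neg, neg_mul]
  rw [← sub_eq_add_neg, ← sub_eq_add_neg, ← sub_eq_add_neg, ← sub_eq_add_neg, sub_eq_zero, sub_eq_zero]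

lemma sym_blocks {g : SpF F} {P Q R S : M2} (hg : (g : Matrix _ _ F) = fromBlocks P Q R S) :
    Pᵀ * R = Rᵀ * P := by
  have h := (SymplecticGroup.mem_iff'.1 g.2)
  rw [hg, Matrix.J, fromBlocks_transpose, fromBlocks_multiply, fromBlocks_multiply, fromBlocks_inj] at h
  obtain ⟨h11, -, -, -⟩ := h
  simp only [mul_zero, zero_add, mul_one, add_zero, mul_neg, neg_mul] at h11
  rw [← sub_eq_add_neg, sub_eq_zero] at h11
  exact h11.symm

/-- The lower unipotent element. -/
def low (Y : M2) (h : Yᵀ = Y) : SpF F :=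
  ⟨fromBlocks 1 0 Y 1, by rw [mem_iff_blocks]; simp [h]⟩

/-- The upper unipotent element. -/
def upp (X : M2) (h : Xᵀ = X) : SpF F :=
  ⟨fromBlocks 1 X 0 1, by rw [mem_iff_blocks]; simp [h]⟩

/-- The Levi element. -/
noncomputable def lev (P : M2) (h : IsUnit P.det) : SpF F :=
  ⟨fromBlocks P 0 0 (Pᵀ)⁻¹, by
    rw [mem_iff_blocks]
    simp [Matrix.transpose_nonsing_inv, Matrix.mul_nonsing_inv _ h,
      Matrix.nonsing_inv_mul _ (by rwa [Matrix.det_transpose] : IsUnit (Pᵀ).det)]⟩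

lemma lev_congr {P P' : M2} (e : P = P') (h : IsUnit P.det) (h' : IsUnit P'.det) :
    lev P h = lev P' h' := by
  subst e; rfl

lemma lev_mul {P P' : M2} (h : IsUnit P.det) (h' : IsUnit P'.det) :
    lev P h * lev P' h' = lev (P * P') (by rw [Matrix.det_mul]; exact h.mul h') := by
  apply Subtype.ext
  simp [lev, Matrix.fromBlocks_multiply, Matrix.transpose_mul, Matrix.mul_inv_rev]

lemma exists_blocks (g : SpF F) : ∃ P Q R S : M2, (g : Matrix _ _ F) = fromBlocks P Q R S :=
  ⟨_, _, _, _, (fromBlocks_toBlocks _).symm⟩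

lemma exists_conj_R_ne {g : SpF F} (hg : g ∉ Subgroup.center (SpF F)) :
    ∃ (c : SpF F) (P Q R S : M2),
      ((c * g * c⁻¹ : SpF F) : Matrix _ _ F) = fromBlocks P Q R S ∧ R ≠ 0 := by
  obtain ⟨P, Q, R, S, hgM⟩ := exists_blocks g
  by_cases hR : R = 0
  swap
  · exact ⟨1, P, Q, R, S, by simpa using hgM, hR⟩
  subst hR
  let j : SpF F := ⟨Matrix.J (Fin 2) F, SymplecticGroup.J_mem (Fin 2) F⟩
  have hji : ((j⁻¹ : SpF F) : Matrix (Fin 2 ⊕ Fin 2) (Fin 2 ⊕ Fin 2) F) = fromBlocks 0 1 (-1) 0 := by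
    rw [SymplecticGroup.coe_inv]
    simp [j, Matrix.J, fromBlocks_transpose, fromBlocks_multiply, fromBlocks_neg]
  by_cases hQ : Q = 0
  swap
  · refine ⟨j, S, 0, -Q, P, ?_, neg_ne_zero.2 hQ⟩
    push_cast
    rw [hji, hgM]
    simp [j, Matrix.J, fromBlocks_multiply]
  subst hQ
  have hcon : ∀ X : M2, Xᵀ = X → X * S = P * X ∨
      ∃ (c : SpF F) (P' Q' R' S' : M2),
        ((c * g * c⁻¹ : SpF F) : Matrix _ _ F) = fromBlocks P' Q' R' S' ∧ R' ≠ 0 := by
    intro X hX
    by_cases hXS : X * S = P * X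
    · exact Or.inl hXS
    refine Or.inr ⟨j * upp X hX, S, 0, -(X * S - P * X), P, ?_, neg_ne_zero.2 (sub_ne_zero.2 hXS)⟩
    have hi : (upp X hX)⁻¹ = upp (-X) (by simp [hX]) := by
      apply inv_eq_of_mul_eq_one_right
      apply Subtype.ext
      simp [upp, fromBlocks_multiply]
    rw [_root_.mul_inv_rev, hi]
    push_cast
    rw [hji, hgM]
    simp [upp, j, Matrix.J, fromBlocks_multiply, sub_eq_add_neg]
  by_contra hno
  have hall : ∀ X : M2, Xᵀ = X → X * S = P * X := fun X hX =>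
    (hcon X hX).resolve_right hno
  have hSP : S = P := by simpa using hall 1 (by simp)
  subst hSP
  have e1 := hall !![1, 0; 0, 0] (by ext i j; fin_cases i <;> fin_cases j <;> simp)
  have e3 := hall !![0, 1; 1, 0] (by ext i j; fin_cases i <;> fin_cases j <;> simp)
  have h01 : S 0 1 = 0 := by simpa [Matrix.mul_apply, Fin.sum_univ_two] using congrFun (congrFun e1 0) 1
  have h10 : S 1 0 = 0 := by simpa [Matrix.mul_apply, Fin.sum_univ_two] using (congrFun (congrFun e1 1) 0).symm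
  have h11 : S 1 1 = S 0 0 := by simpa [Matrix.mul_apply, Fin.sum_univ_two] using congrFun (congrFun e3 0) 1
  have hS : S = S 0 0 • (1 : M2) := by
    ext i j; fin_cases i <;> fin_cases j <;> simp [h01, h10, h11]
  apply hg
  rw [Subgroup.mem_center_iff]
  intro k
  apply Subtype.ext
  have hgs : (g : Matrix (Fin 2 ⊕ Fin 2) (Fin 2 ⊕ Fin 2) F) = S 0 0 • 1 := by
    conv_lhs => rw [hgM, hS]
    rw [← fromBlocks_one, fromBlocks_smul]
    simp
  push_cast
  rw [hgs]
  simp

/-- A target block: determinant one, and trivial, or of nonzero trace, or in odd characteristic. -/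
def Target (P : M2) : Prop :=
  P.det = 1 ∧ (P = 1 ∨ P.trace ≠ 0 ∨ (2 : F) ≠ 0)

lemma exists_target_with_image (v a : Fin 2 → F) (hv : v ≠ 0) (ha : a ≠ 0) :
    ∃ P : M2, Target P ∧ P *ᵥ v = a := by
  obtain ⟨C, hC, hCv⟩ : ∃ C : M2, C.det = 1 ∧ C *ᵥ ![1, 0] = v := by
    by_cases h0 : v 0 = 0
    · have h1 : v 1 ≠ 0 := fun h1 => hv (by ext i; fin_cases i <;> assumption)
      refine ⟨!![v 0, -(v 1)⁻¹; v 1, 0], ?_, ?_⟩
      · simp [Matrix.det_fin_two, h1]
      · ext i; fin_cases i <;> simp [Matrix.mulVec, dotProduct]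
    · refine ⟨!![v 0, 0; v 1, (v 0)⁻¹], ?_, ?_⟩
      · simp [Matrix.det_fin_two, h0]
      · ext i; fin_cases i <;> simp [Matrix.mulVec, dotProduct]
  have hu : IsUnit C.det := by rw [hC]; exact isUnit_one
  set b := C⁻¹ *ᵥ a with hb
  have hCb : C *ᵥ b = a := by rw [hb, Matrix.mulVec_mulVec, Matrix.mul_nonsing_inv _ hu, one_mulVec]
  have hb0 : b ≠ 0 := fun h => ha (by rw [← hCb, h, mulVec_zero])
  obtain ⟨P0, hP0, hP0v⟩ : ∃ P0 : M2, Target P0 ∧ P0 *ᵥ ![1, 0] = b := by
    by_cases h1 : b 1 = 0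
    · have h00 : b 0 ≠ 0 := fun h00 => hb0 (by ext i; fin_cases i <;> assumption)
      refine ⟨!![b 0, 0; 0, (b 0)⁻¹], ⟨by simp [Matrix.det_fin_two, h00], ?_⟩, ?_⟩
      · by_cases h2 : (2 : F) = 0
        swap
        · exact Or.inr (Or.inr h2)
        by_cases hb1 : b 0 = 1
        · left; ext i j; fin_cases i <;> fin_cases j <;> simp [hb1]
        · right; left
          rw [Matrix.trace_fin_two]
          simp
          intro h
          field_simp at h
          apply hb1
          have : (b 0 - 1) * (b 0 - 1) = 0 := by linear_combination h - b 0 * h2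
          simpa [sub_eq_zero] using this
      · ext i; fin_cases i <;> simp [Matrix.mulVec, dotProduct, h1]
    · refine ⟨!![b 0, (b 0 * (1 - b 0) - 1) / b 1; b 1, 1 - b 0], ⟨?_, Or.inr (Or.inl ?_)⟩, ?_⟩
      · simp [Matrix.det_fin_two]; field_simp; ring
      · simp [Matrix.trace_fin_two]
      · ext i; fin_cases i <;> simp [Matrix.mulVec, dotProduct]
  refine ⟨C * P0 * C⁻¹, ⟨?_, ?_⟩, ?_⟩
  · rw [Matrix.det_mul, Matrix.det_mul, hP0.1, Matrix.det_nonsing_inv, hC, Ring.inverse_one]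
    simp
  · rcases hP0.2 with h | h | h
    · left; rw [h, mul_one, Matrix.mul_nonsing_inv _ hu]
    · right; left
      rwa [Matrix.trace_mul_cycle, Matrix.nonsing_inv_mul _ hu, one_mul]
    · exact Or.inr (Or.inr h)
  · rw [← Matrix.mulVec_mulVec, ← Matrix.mulVec_mulVec, ← hCv, Matrix.mulVec_mulVec ![1, 0] C⁻¹ C,
      Matrix.nonsing_inv_mul _ hu, one_mulVec, hP0v, hCb]

lemma exists_sym_factor {R D : M2} {v : Fin 2 → F} (hR : R ≠ 0) (hv : v ≠ 0) (hRv : R *ᵥ v = 0)
    (hDv : D *ᵥ v = 0) : ∃ X : M2, Xᵀ = X ∧ X * R = D := by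
  have hz : ∀ w u : Fin 2 → F, w ≠ 0 → ∃ X : M2, Xᵀ = X ∧ X *ᵥ w = u := by
    intro w u hw
    by_cases h0 : w 0 = 0
    · have h1 : w 1 ≠ 0 := fun h1 => hw (by ext i; fin_cases i <;> assumption)
      refine ⟨!![0, u 0 / w 1; u 0 / w 1, (u 1 - (u 0 / w 1) * w 0) / w 1], ?_, ?_⟩
      · ext i j; fin_cases i <;> fin_cases j <;> simp
      · ext i; fin_cases i <;> simp [Matrix.mulVec, dotProduct, h0, h1]
    · refine ⟨!![(u 0 - (u 1 / w 0) * w 1) / w 0, u 1 / w 0; u 1 / w 0, 0], ?_, ?_⟩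
      · ext i j; fin_cases i <;> fin_cases j <;> simp
      · ext i; fin_cases i <;> simp [Matrix.mulVec, dotProduct] <;> field_simp <;> ring
  -- `i` is a column that is killed given the other one `k`
  have main : ∀ i k : Fin 2, i ≠ k → v i ≠ 0 → ∃ X : M2, Xᵀ = X ∧ X * R = D := by
    intro i k hik hvi
    have hsum : ∀ (T : M2) (r : Fin 2), (T *ᵥ v) r = T r i * v i + T r k * v k := by
      intro T r
      fin_cases i <;> fin_cases k <;> simp_all [Matrix.mulVec, dotProduct, Fin.sum_univ_two] <;> ring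
    have hcol : ∀ T : M2, T *ᵥ v = 0 → ∀ r, T r i = -(v k / v i) * T r k := by
      intro T hT r
      have := hsum T r
      rw [hT, Pi.zero_apply] at this
      field_simp
      linear_combination -this
    have hw : (fun r => R r k) ≠ 0 := by
      intro h
      apply hR
      ext r j
      have hj : j = i ∨ j = k := by fin_cases i <;> fin_cases k <;> fin_cases j <;> simp_all
      have hk : R r k = 0 := congrFun h r
      rcases hj with rfl | rfl
      · simp [hcol R hRv r, hk]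
      · simp [hk]
    obtain ⟨X, hX, hXw⟩ := hz (fun r => R r k) (fun r => D r k) hw
    refine ⟨X, hX, ?_⟩
    have hXR : (X * R) *ᵥ v = 0 := by rw [← Matrix.mulVec_mulVec, hRv, mulVec_zero]
    ext r j
    have hj : j = i ∨ j = k := by fin_cases i <;> fin_cases k <;> fin_cases j <;> simp_all
    have hk : (X * R) r k = D r k := congrFun hXw r
    rcases hj with rfl | rfl
    · rw [hcol _ hXR r, hcol D hDv r, hk]
    · exact hk
  by_cases h0 : v 0 = 0
  · exact main 1 0 (by decide) fun h1 => hv (by ext i; fin_cases i <;> assumption)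
  · exact main 0 1 (by decide) h0

lemma exists_sym_det_trace [Fintype F] (h3 : 3 ≤ Fintype.card F) (R : M2) (hR : IsUnit R.det) :
    ∃ X : M2, Xᵀ = X ∧ Target (X * R) := by
  have hd : R.det ≠ 0 := hR.ne_zero
  by_cases hs : R 1 0 = R 0 1
  · have hRt : Rᵀ = R := by ext i j; fin_cases i <;> fin_cases j <;> simp [hs]
    exact ⟨R⁻¹, by rw [Matrix.transpose_nonsing_inv, hRt],
      by simp [Matrix.nonsing_inv_mul _ hR], Or.inl (Matrix.nonsing_inv_mul _ hR)⟩
  by_cases h2 : (2 : F) = 0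
  swap
  · refine ⟨!![1, 0; 0, R.det⁻¹], by ext i j; fin_cases i <;> fin_cases j <;> simp, ?_, Or.inr (Or.inr h2)⟩
    rw [Matrix.det_mul]; simp [Matrix.det_fin_two] at hd ⊢; field_simp
  let c := R.det⁻¹
  have hne : R 0 1 + R 1 0 ≠ 0 := by
    intro h
    exact hs (by linear_combination h - R 0 1 * h2)
  obtain ⟨β, hβ⟩ : ∃ β : F, R 0 0 + β * (R 0 1 + R 1 0) + (c + β * β) * R 1 1 ≠ 0 := by
    classical
    by_contra hcon
    push Not at hcon
    open Polynomial in
    let f : F[X] := Polynomial.C (R 1 1) * X ^ 2 + Polynomial.C (R 0 1 + R 1 0) * X +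
      Polynomial.C (R 0 0 + c * R 1 1)
    have hroot : ∀ β : F, f.IsRoot β := by
      intro β
      simp [f, Polynomial.IsRoot]
      linear_combination hcon β
    have hf : f ≠ 0 := by
      intro h0
      have := congrArg (fun p => Polynomial.coeff p 1) h0
      simp [f, Polynomial.coeff_X, Polynomial.coeff_C] at this
      exact hne this
    have hcard := Polynomial.card_le_degree_of_subset_roots (p := f) (Z := Finset.univ)
      (fun β _ => (Polynomial.mem_roots hf).2 (hroot β))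
    have hdeg : f.natDegree ≤ 2 := Polynomial.natDegree_quadratic_le
    rw [Finset.card_univ] at hcard
    omega
  refine ⟨!![1, β; β, c + β * β], by ext i j; fin_cases i <;> fin_cases j <;> simp, ?_, Or.inr (Or.inl ?_)⟩
  · rw [Matrix.det_mul]
    simp [Matrix.det_fin_two_of, c]
    field_simp
  · intro h
    apply hβ
    simp [Matrix.trace_fin_two, Matrix.mul_apply, Fin.sum_univ_two, Matrix.vecMul, dotProduct] at h
    linear_combination h

theorem exists_conj_target [Fintype F] (h3 : 3 ≤ Fintype.card F) {g : SpF F}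
    (hg : g ∉ Subgroup.center (SpF F)) :
    ∃ (c : SpF F) (P Q R S : M2),
      ((c * g * c⁻¹ : SpF F) : Matrix _ _ F) = fromBlocks P Q R S ∧ Target P := by
  obtain ⟨c, P, Q, R, S, hM, hR⟩ := exists_conj_R_ne hg
  suffices hX : ∃ X : M2, Xᵀ = X ∧ Target (P + X * R) by
    obtain ⟨X, hX, hT⟩ := hX
    refine ⟨upp X hX * c, P + X * R, (Q + X * S) - (P + X * R) * X, R, S - R * X, ?_, hT⟩
    have hi : (upp X hX)⁻¹ = upp (-X) (by simp [hX]) := by
      apply inv_eq_of_mul_eq_one_right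
      apply Subtype.ext
      simp [upp, fromBlocks_multiply]
    have he : upp X hX * c * g * (upp X hX * c)⁻¹ = upp X hX * (c * g * c⁻¹) * upp (-X) (by simp [hX]) := by
      rw [← hi]; group
    rw [he]
    push_cast
    rw [show ((c : Matrix _ _ F) * (g : Matrix _ _ F) * ((c⁻¹ : SpF F) : Matrix _ _ F)) = fromBlocks P Q R S by
      rw [← hM]; push_cast; rfl]
    simp [upp, fromBlocks_multiply]
    constructor <;> noncomm_ring
  by_cases hdet : IsUnit R.det
  · obtain ⟨X', hX', hT⟩ := exists_sym_det_trace h3 R hdet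
    have hsym : (P * R⁻¹)ᵀ = P * R⁻¹ := by
      have huT : IsUnit (Rᵀ).det := by rwa [Matrix.det_transpose]
      have h := sym_blocks hM
      calc (P * R⁻¹)ᵀ = (Rᵀ)⁻¹ * (Pᵀ * R) * R⁻¹ := by
            rw [Matrix.transpose_mul, Matrix.transpose_nonsing_inv, mul_assoc, mul_assoc Pᵀ,
              Matrix.mul_nonsing_inv _ hdet, mul_one]
        _ = P * R⁻¹ := by rw [h, ← mul_assoc, Matrix.nonsing_inv_mul _ huT, one_mul]
    refine ⟨X' - P * R⁻¹, by rw [Matrix.transpose_sub, hX', hsym], ?_⟩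
    rwa [sub_mul, mul_assoc, Matrix.nonsing_inv_mul _ hdet, mul_one, add_sub_cancel]
  · obtain ⟨v, hv, hRv⟩ := Matrix.exists_mulVec_eq_zero_iff.2
      (show R.det = 0 by simpa [isUnit_iff_ne_zero] using hdet)
    have ha : P *ᵥ v ≠ 0 := by
      intro hPv
      apply hv
      have hmul : (fromBlocks P Q R S) *ᵥ (Sum.elim v 0) = 0 := by
        rw [fromBlocks_mulVec]; simp [hPv, hRv]
      rw [← hM] at hmul
      have hu : IsUnit ((c * g * c⁻¹ : SpF F) : Matrix (Fin 2 ⊕ Fin 2) (Fin 2 ⊕ Fin 2) F).det :=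
        SymplecticGroup.symplectic_det (c * g * c⁻¹).2
      have := congrArg (fun w => ((c * g * c⁻¹ : SpF F) : Matrix (Fin 2 ⊕ Fin 2) (Fin 2 ⊕ Fin 2) F)⁻¹ *ᵥ w) hmul
      simp only [Matrix.mulVec_mulVec, Matrix.nonsing_inv_mul _ hu, one_mulVec, mulVec_zero] at this
      ext i
      exact congrFun this (Sum.inl i)
    obtain ⟨P', hT, hP'⟩ := exists_target_with_image v (P *ᵥ v) hv ha
    obtain ⟨X, hX, hXR⟩ := exists_sym_factor (D := P' - P) hR hv hRv (by rw [sub_mulVec, hP', sub_self])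
    exact ⟨X, hX, by rwa [hXR, add_sub_cancel]⟩

end Cfsg.Lib.SpFourCover
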