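import Cfsg.Agent.Known.SpFourCover.Block
import Cfsg.Prelude.Def_Classical

/-!
`PSp(4,q)`, `q ≥ 3`, has a semisimple class whose square contains every non-identity element.
-/

set_option autoImplicit false

open Matrix

namespace Cfsg.Lib.SpFourCover

variable {F : Type*} [Field F] [Fintype F] {t d : F}

local notation "M2" => Matrix (Fin 2) (Fin 2) F

omit [Fintype F] in
lemma isUnit_det_of (h : EllipticPair t d) {y : M2} (hy : y.det = d) : IsUnit y.det :=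
  isUnit_iff_ne_zero.2 (hy ▸ h.hd0)

/-- The elliptic Levi element. -/
noncomputable def ell (h : EllipticPair t d) : SpF F :=
  lev (comp2 t d) (isUnit_det_of h (comp2_det t d))

omit [Fintype F] in
lemma isConj_lev (h : EllipticPair t d) {y : M2} (ht : y.trace = t) (hd : y.det = d) :
    IsConj (ell h) (lev y (isUnit_det_of h hd)) := by
  obtain ⟨C, hC, hyC⟩ := conj_comp2 y (ne_zero_of_elliptic h ht hd)
  rw [ht, hd] at hyC
  rw [isConj_iff]
  refine ⟨lev C (isUnit_iff_ne_zero.2 hC), ?_⟩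
  rw [mul_inv_eq_iff_eq_mul, ell, lev_mul, lev_mul]
  exact lev_congr hyC.symm _ _

omit [Fintype F] in
lemma lev_inv {y : M2} (hy : IsUnit y.det) :
    (lev y hy)⁻¹ = lev y⁻¹ (by rw [Matrix.det_nonsing_inv]; exact hy.ringInverse) := by
  apply inv_eq_of_mul_eq_one_right
  rw [lev_mul, lev_congr (Matrix.mul_nonsing_inv _ hy) _ (by simp)]
  apply Subtype.ext
  simp [lev]

omit [Fintype F] in
lemma isConj_ell_inv (h : EllipticPair t d) : IsConj (ell h) (ell h)⁻¹ := by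
  have hd : (comp2 t d)ᵀ.det = d := by simp
  have ht : (comp2 t d)ᵀ.trace = t := by simp
  obtain ⟨c, hc⟩ := isConj_iff.1 (isConj_lev h ht hd)
  let j : SpF F := ⟨Matrix.J (Fin 2) F, SymplecticGroup.J_mem (Fin 2) F⟩
  have hj : j * ell h * j⁻¹ = (lev (comp2 t d)ᵀ (isUnit_det_of h hd))⁻¹ := by
    rw [lev_inv, mul_inv_eq_iff_eq_mul]
    apply Subtype.ext
    simp [j, ell, lev, Matrix.J, fromBlocks_multiply, Matrix.transpose_nonsing_inv,
      Matrix.nonsing_inv_nonsing_inv _ (isUnit_det_of h (comp2_det t d))]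
  have h1 : IsConj (ell h) ((lev (comp2 t d)ᵀ (isUnit_det_of h hd))⁻¹) := isConj_iff.2 ⟨j, hj⟩
  refine h1.trans (isConj_iff.2 ⟨c⁻¹, ?_⟩)
  rw [← hc]
  group

lemma exists_low_conj {w : M2} (hw : IsUnit w.det)
    (hfix : ∀ Z : M2, Zᵀ = Z → wᵀ * Z * w = Z → Z = 0) (Y : M2) (hY : Yᵀ = Y) :
    IsConj (lev w hw) (low Y hY * lev w hw) := by
  classical
  have huT : IsUnit (wᵀ).det := by rwa [Matrix.det_transpose]
  let φ : {Z : M2 // Zᵀ = Z} → {Z : M2 // Zᵀ = Z} := fun Z => ⟨Z.1 - (wᵀ)⁻¹ * Z.1 * w⁻¹, by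
    simp [Matrix.transpose_mul, Matrix.transpose_nonsing_inv, Z.2, mul_assoc]⟩
  have hinj : Function.Injective φ := by
    intro Z Z' hZ
    have he : Z.1 - (wᵀ)⁻¹ * Z.1 * w⁻¹ = Z'.1 - (wᵀ)⁻¹ * Z'.1 * w⁻¹ := congrArg Subtype.val hZ
    have hD : (wᵀ)⁻¹ * (Z.1 - Z'.1) * w⁻¹ = Z.1 - Z'.1 := by
      rw [mul_sub, sub_mul]
      linear_combination (norm := noncomm_ring) -he
    refine Subtype.ext (sub_eq_zero.1 (hfix _ (by simp [Z.2, Z'.2]) ?_))
    calc wᵀ * (Z.1 - Z'.1) * w = wᵀ * ((wᵀ)⁻¹ * (Z.1 - Z'.1) * w⁻¹) * w := by rw [hD]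
      _ = Z.1 - Z'.1 := by
        rw [mul_assoc, mul_assoc _ _ w, Matrix.nonsing_inv_mul _ hw, mul_one, ← mul_assoc,
          Matrix.mul_nonsing_inv _ huT, one_mul]
  obtain ⟨⟨Z, hZ⟩, hZY⟩ := (Finite.injective_iff_surjective.1 hinj) ⟨Y, hY⟩
  have hZY' : Z - (wᵀ)⁻¹ * Z * w⁻¹ = Y := congrArg Subtype.val hZY
  refine isConj_iff.2 ⟨low Z hZ, ?_⟩
  rw [mul_inv_eq_iff_eq_mul]
  apply Subtype.ext
  simp [low, lev, fromBlocks_multiply]
  rw [← hZY']
  simp [sub_mul, mul_assoc, Matrix.nonsing_inv_mul _ hw]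

lemma exists_upp_conj {w : M2} (hw : IsUnit w.det)
    (hfix : ∀ Z : M2, Zᵀ = Z → w * Z * wᵀ = Z → Z = 0) (X : M2) (hX : Xᵀ = X) :
    IsConj (lev w hw) (lev w hw * upp X hX) := by
  classical
  have huT : IsUnit (wᵀ).det := by rwa [Matrix.det_transpose]
  let φ : {Z : M2 // Zᵀ = Z} → {Z : M2 // Zᵀ = Z} := fun Z => ⟨w⁻¹ * Z.1 * (wᵀ)⁻¹ - Z.1, by
    simp [Matrix.transpose_mul, Matrix.transpose_nonsing_inv, Z.2, mul_assoc]⟩
  have hinj : Function.Injective φ := by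
    intro Z Z' hZ
    have he : w⁻¹ * Z.1 * (wᵀ)⁻¹ - Z.1 = w⁻¹ * Z'.1 * (wᵀ)⁻¹ - Z'.1 := congrArg Subtype.val hZ
    have hD : w⁻¹ * (Z.1 - Z'.1) * (wᵀ)⁻¹ = Z.1 - Z'.1 := by
      rw [mul_sub, sub_mul]
      linear_combination (norm := noncomm_ring) he
    refine Subtype.ext (sub_eq_zero.1 (hfix _ (by simp [Z.2, Z'.2]) ?_))
    calc w * (Z.1 - Z'.1) * wᵀ = w * (w⁻¹ * (Z.1 - Z'.1) * (wᵀ)⁻¹) * wᵀ := by rw [hD]
      _ = Z.1 - Z'.1 := by
        rw [mul_assoc, mul_assoc _ _ wᵀ, Matrix.nonsing_inv_mul _ huT, mul_one, ← mul_assoc,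
          Matrix.mul_nonsing_inv _ hw, one_mul]
  obtain ⟨⟨Z, hZ⟩, hZY⟩ := (Finite.injective_iff_surjective.1 hinj) ⟨X, hX⟩
  have hZX : w⁻¹ * Z * (wᵀ)⁻¹ - Z = X := congrArg Subtype.val hZY
  refine isConj_iff.2 ⟨upp Z hZ, ?_⟩
  rw [mul_inv_eq_iff_eq_mul]
  apply Subtype.ext
  simp [upp, lev, fromBlocks_multiply]
  rw [← hZX]
  simp [← mul_add, ← mul_assoc, Matrix.mul_nonsing_inv _ hw]

lemma isConj_low_lev_inv (h : EllipticPair t d) {y : M2} (ht : y.trace = t) (hd : y.det = d)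
    (Y : M2) (hY : Yᵀ = Y) :
    IsConj (ell h) (low Y hY * (lev y (isUnit_det_of h hd))⁻¹) := by
  have hy := isUnit_det_of h hd
  have hyT : IsUnit (yᵀ).det := by rwa [Matrix.det_transpose]
  have h1 : IsConj (ell h) (lev y hy)⁻¹ := by
    refine (isConj_ell_inv h).trans ?_
    obtain ⟨c, hc⟩ := isConj_iff.1 (isConj_lev h ht hd)
    refine isConj_iff.2 ⟨c, ?_⟩
    rw [← hc]
    group
  rw [lev_inv] at h1 ⊢
  refine h1.trans (exists_low_conj _ (fun Z hZ hZf => sym_fix_eq_zero h ht hd hZ ?_) Y hY)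
  conv_lhs => rw [← hZf, Matrix.transpose_nonsing_inv]
  rw [← mul_assoc, ← mul_assoc, Matrix.mul_nonsing_inv _ hyT, one_mul, mul_assoc,
    Matrix.nonsing_inv_mul _ hy, mul_one]

lemma isConj_lev_upp (h : EllipticPair t d) {y : M2} (ht : y.trace = t) (hd : y.det = d)
    (X : M2) (hX : Xᵀ = X) :
    IsConj (ell h) (lev y (isUnit_det_of h hd) * upp X hX) := by
  refine (isConj_lev h ht hd).trans (exists_upp_conj _ (fun Z hZ hZf => ?_) X hX)
  exact sym_fix_eq_zero h (y := yᵀ) (by simpa using ht) (by simpa using hd) hZ (by simpa using hZf)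

omit [Fintype F] in
lemma exists_decomp {g : SpF F} {P Q R S : M2} (hg : (g : Matrix _ _ F) = fromBlocks P Q R S)
    (hP : IsUnit P.det) :
    ∃ (Y : M2) (hY : Yᵀ = Y) (X : M2) (hX : Xᵀ = X), g = low Y hY * lev P hP * upp X hX := by
  have huT : IsUnit (Pᵀ).det := by rwa [Matrix.det_transpose]
  have hY : (R * P⁻¹)ᵀ = R * P⁻¹ := by
    have h := sym_blocks hg
    calc (R * P⁻¹)ᵀ = (Pᵀ)⁻¹ * (Rᵀ * P) * P⁻¹ := by
          rw [Matrix.transpose_mul, Matrix.transpose_nonsing_inv, mul_assoc, mul_assoc Rᵀ,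
            Matrix.mul_nonsing_inv _ hP, mul_one]
      _ = R * P⁻¹ := by rw [← h, ← mul_assoc, Matrix.nonsing_inv_mul _ huT, one_mul]
  let u : SpF F := (lev P hP)⁻¹ * ((low (R * P⁻¹) hY)⁻¹ * g)
  have hl : (low (R * P⁻¹) hY)⁻¹ = low (-(R * P⁻¹)) (by rw [Matrix.transpose_neg, hY]) := by
    apply inv_eq_of_mul_eq_one_right
    apply Subtype.ext
    simp [low, fromBlocks_multiply]
  have hu : (u : Matrix (Fin 2 ⊕ Fin 2) (Fin 2 ⊕ Fin 2) F) = fromBlocks 1 (P⁻¹ * Q) 0 (Pᵀ * (S - R * P⁻¹ * Q)) := by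
    simp only [u, hl, lev_inv]
    push_cast
    rw [hg]
    simp [low, lev, fromBlocks_multiply, Matrix.nonsing_inv_mul _ hP, mul_assoc,
      Matrix.transpose_nonsing_inv, Matrix.nonsing_inv_nonsing_inv _ huT]
    rw [neg_add_eq_sub]
  have hmem := u.2
  rw [hu, mem_iff_blocks] at hmem
  obtain ⟨h1, h2, -, -⟩ := hmem
  have hX : (P⁻¹ * Q)ᵀ = P⁻¹ * Q := by simpa using h1.symm
  have hS : Pᵀ * (S - R * P⁻¹ * Q) = 1 := by
    have h2' : (Pᵀ * (S - R * P⁻¹ * Q))ᵀ = (1 : M2) := by simpa using h2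
    simpa using congrArg Matrix.transpose h2'
  refine ⟨R * P⁻¹, hY, P⁻¹ * Q, hX, ?_⟩
  have hu' : u = upp (P⁻¹ * Q) hX := Subtype.ext (by rw [hu, hS]; rfl)
  rw [← hu']
  simp only [u]
  group

omit [Fintype F] in
/-- The good blocks, up to sign. -/
lemma good_or_neg {P : M2} (hT : Target P) :
    ∃ P' : M2, (P' = P ∨ P' = -P) ∧ P'.det = 1 ∧ (P' = 1 ∨ P'.trace ≠ 2 ∧ P' ≠ -1) := by
  obtain ⟨hdet, hT⟩ := hT
  by_cases h1 : P = 1
  · exact ⟨P, Or.inl rfl, hdet, Or.inl h1⟩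
  by_cases hm : P = -1
  · exact ⟨-P, Or.inr rfl, by rw [hm]; simp, Or.inl (by rw [hm, neg_neg])⟩
  by_cases htr : P.trace = 2
  · refine ⟨-P, Or.inr rfl, by rw [Matrix.det_neg, hdet]; simp, Or.inr ⟨?_, fun h => h1 (neg_injective h)⟩⟩
    rw [Matrix.trace_neg, htr]
    have h2 : (2 : F) ≠ 0 := by
      rcases hT with h | h | h
      · exact absurd h h1
      · rwa [htr] at h
      · exact h
    intro hh
    exact h2 (mul_self_eq_zero.1 (by linear_combination -hh))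
  · exact ⟨P, Or.inl rfl, hdet, Or.inr ⟨htr, hm⟩⟩

theorem cover_main (h3 : 3 ≤ Fintype.card F) (h : EllipticPair t d) {g : SpF F}
    (hg : g ∉ Subgroup.center (SpF F)) :
    ∃ (a b z : SpF F), z ∈ Subgroup.center (SpF F) ∧
      g = z * ((a * ell h * a⁻¹) * (b * ell h * b⁻¹)) := by
  obtain ⟨c, P, Q, R, S, hM, hT⟩ := exists_conj_target h3 hg
  have hP : IsUnit P.det := by rw [hT.1]; exact isUnit_one
  obtain ⟨Y, hY, X, hX, hdec⟩ := exists_decomp hM hP
  obtain ⟨P', hP', hdet', hgood⟩ := good_or_neg hT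
  obtain ⟨y, ht, hd, ht', hd'⟩ := exists_factor h P' hdet' hgood
  have hP'u : IsUnit P'.det := by rw [hdet']; exact isUnit_one
  obtain ⟨a, ha⟩ := isConj_iff.1 (isConj_low_lev_inv h ht hd Y hY)
  obtain ⟨b, hb⟩ := isConj_iff.1 (isConj_lev_upp h ht' hd' X hX)
  have hfac : lev P' hP'u = (lev y (isUnit_det_of h hd))⁻¹ * lev (y * P') (isUnit_det_of h hd') := by
    rw [eq_inv_mul_iff_mul_eq, lev_mul]
  obtain ⟨z, hz, hzP⟩ : ∃ z ∈ Subgroup.center (SpF F), lev P hP = z * lev P' hP'u := by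
    rcases hP' with rfl | rfl
    · exact ⟨1, one_mem _, (one_mul _).symm⟩
    · refine ⟨lev (-1) (by simp [Matrix.det_neg]), ?_, ?_⟩
      · rw [Subgroup.mem_center_iff]
        intro k
        apply Subtype.ext
        have hneg : ((lev (-1 : M2) (by simp [Matrix.det_neg]) : SpF F) :
            Matrix (Fin 2 ⊕ Fin 2) (Fin 2 ⊕ Fin 2) F) = -1 := by
          have h1 : ((-1 : M2)ᵀ)⁻¹ = -1 := by
            apply Matrix.inv_eq_left_inv
            simp
          simp only [lev, h1]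
          rw [← fromBlocks_one, fromBlocks_neg, neg_zero]
        push_cast
        rw [hneg]
        simp
      · rw [lev_mul]
        exact lev_congr (by simp) _ _
  refine ⟨c⁻¹ * a, c⁻¹ * b, z, hz, ?_⟩
  have hprod : c * g * c⁻¹ = z * ((a * ell h * a⁻¹) * (b * ell h * b⁻¹)) := by
    rw [hdec, ha, hb, hzP, hfac]
    have hcz := Subgroup.mem_center_iff.1 hz (low Y hY)
    simp only [← mul_assoc]
    rw [hcz]
  calc g = c⁻¹ * (c * g * c⁻¹) * c := by group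
    _ = (c⁻¹ * z) * ((a * ell h * a⁻¹) * (b * ell h * b⁻¹)) * c := by rw [hprod]; group
    _ = (z * c⁻¹) * ((a * ell h * a⁻¹) * (b * ell h * b⁻¹)) * c := by
        rw [Subgroup.mem_center_iff.1 hz c⁻¹]
    _ = _ := by group

omit [Fintype F] in
lemma commutant_det_zero (h : EllipticPair t d) {u : M2} (hcomm : u * comp2 t d = comp2 t d * u)
    (hdet : u.det = 0) : u = 0 := by
  have e00 := congrFun (congrFun hcomm 0) 0
  have e10 := congrFun (congrFun hcomm 1) 0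
  simp [comp2, Matrix.mul_apply, Fin.sum_univ_two] at e00 e10
  rw [Matrix.det_fin_two, e00, e10] at hdet
  have hb : u 1 0 = 0 := by
    by_contra hb
    apply h.noRoot (-(u 0 0) / u 1 0)
    field_simp
    linear_combination hdet
  have ha : u 0 0 = 0 := by
    rw [hb] at hdet
    simpa using hdet
  ext i j
  fin_cases i <;> fin_cases j <;> simp [e00, e10, ha, hb]

lemma not_dvd_orderOf_ell (p : ℕ) [Fact p.Prime] [CharP F p] (h : EllipticPair t d) :
    ¬ p ∣ orderOf (ell h) := by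
  intro hdvd
  have hA := isUnit_det_of h (comp2_det t d)
  have hpow : ∀ n : ℕ, ((ell h) ^ n : SpF F).1 =
      fromBlocks ((comp2 t d) ^ n) 0 0 ((((comp2 t d)ᵀ)⁻¹) ^ n) := by
    intro n
    push_cast
    simp only [ell, lev]
    induction n with
    | zero => simp
    | succ n ih => rw [pow_succ, ih, pow_succ, pow_succ, fromBlocks_multiply]; simp
  have hord : ∀ n : ℕ, (comp2 t d) ^ n = 1 → (ell h) ^ n = 1 := by
    intro n hn
    apply Subtype.ext
    rw [hpow, hn, Matrix.inv_pow', ← Matrix.transpose_pow, hn]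
    simp
  obtain ⟨k, hk⟩ := hdvd
  have hkpos : 0 < k := by
    rcases Nat.eq_zero_or_pos k with h0 | h0
    · have := orderOf_pos (ell h); rw [hk, h0, mul_zero] at this; omega
    · exact h0
  set u : M2 := (comp2 t d) ^ k - 1 with hu
  have hup : u ^ p = 0 := by
    rw [hu, sub_pow_char_of_commute _ (Commute.one_right _), one_pow, ← pow_mul, sub_eq_zero]
    have h1 := congrArg Subtype.val (pow_orderOf_eq_one (ell h))
    rw [hpow, hk, mul_comm p k, OneMemClass.coe_one, ← fromBlocks_one, fromBlocks_inj] at h1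
    exact h1.1
  have hu0 : u = 0 := by
    refine commutant_det_zero h ?_ ?_
    · rw [hu, sub_mul, mul_sub, one_mul, mul_one, ← pow_succ, ← pow_succ']
    · have : u.det ^ p = 0 := by rw [← Matrix.det_pow, hup]; simp
      exact eq_zero_of_pow_eq_zero this
  have hle : orderOf (ell h) ≤ k := orderOf_le_of_pow_eq_one hkpos (hord k (sub_eq_zero.1 hu0))
  rw [hk] at hle
  have hp := (Fact.out : p.Prime).two_le
  nlinarith

theorem psp_four_cover (p : ℕ) [Fact p.Prime] [CharP F p] (h3 : 3 ≤ Fintype.card F) :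
    ∃ x : Cfsg.PSp 2 F, ¬ p ∣ orderOf x ∧ ∀ g : Cfsg.PSp 2 F, g ≠ 1 →
      ∃ u v : Cfsg.PSp 2 F, g = (u * x * u⁻¹) * (v * x * v⁻¹) := by
  obtain ⟨t, d, h⟩ := exists_ellipticPair h3
  let π := QuotientGroup.mk' (Subgroup.center (SpF F))
  refine ⟨π (ell h), fun hp => not_dvd_orderOf_ell p h (hp.trans (orderOf_map_dvd π _)), ?_⟩
  intro g hg
  obtain ⟨g, rfl⟩ := QuotientGroup.mk'_surjective (Subgroup.center (SpF F)) g
  have hgc : g ∉ Subgroup.center (SpF F) := fun hc => hg ((QuotientGroup.eq_one_iff g).2 hc)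
  obtain ⟨a, b, z, hz, hgeq⟩ := cover_main h3 h hgc
  refine ⟨π a, π b, ?_⟩
  have hz1 : π z = 1 := (QuotientGroup.eq_one_iff z).2 hz
  calc π g = π z * ((π a * π (ell h) * (π a)⁻¹) * (π b * π (ell h) * (π b)⁻¹)) := by
        simp only [← map_inv, ← map_mul]; rw [← hgeq]
    _ = _ := by rw [hz1, one_mul]

end Cfsg.Lib.SpFourCover
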